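import Mathlib.CategoryTheory.Monoidal.Cartesian.Over
import Mathlib.CategoryTheory.Monoidal.Cartesian.Grp
import Mathlib.AlgebraicGeometry.Sites.Fpqc
import Mathlib.AlgebraicGeometry.Pullbacks

/-! An associative law with invertible shears on an fppf (or fpqc) scheme is a group law. -/

universe u

open CategoryTheory MonoidalCategory CartesianMonoidalCategory AlgebraicGeometry
open CategoryTheory.Limits

noncomputable section

namespace Groth.Agent.AssocGrp

variable {S : Scheme.{u}} {X : Over S} (P : X ⊗ X ⟶ X)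

/-- The law on points. -/
def m {T : Over S} (a b : T ⟶ X) : T ⟶ X := CartesianMonoidalCategory.lift a b ≫ P

theorem comp_m {T T' : Over S} (f : T' ⟶ T) (a b : T ⟶ X) : f ≫ m P a b = m P (f ≫ a) (f ≫ b) := by
  rw [m, m, comp_lift_assoc]

theorem m_assoc (h : (P ▷ X) ≫ P = (α_ X X X).hom ≫ (X ◁ P) ≫ P) {T : Over S} (a b c : T ⟶ X) :
    m P (m P a b) c = m P a (m P b c) := by
  have := congrArg (fun g => CartesianMonoidalCategory.lift (CartesianMonoidalCategory.lift a b) c ≫ g) h
  simp only [lift_whiskerRight_assoc, lift_lift_associator_hom_assoc, lift_whiskerLeft_assoc] at this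
  exact this

theorem left_div [IsIso (CartesianMonoidalCategory.lift (SemiCartesianMonoidalCategory.fst X X) P)] {T : Over S}
    (a c : T ⟶ X) : ∃! b, m P a b = c := by
  set σ := CartesianMonoidalCategory.lift (SemiCartesianMonoidalCategory.fst X X) P with hσ
  have key : ∀ b : T ⟶ X, CartesianMonoidalCategory.lift a b ≫ σ = CartesianMonoidalCategory.lift a (m P a b) := by
    intro b
    rw [hσ, comp_lift, lift_fst]
    rfl
  obtain ⟨w, hw⟩ : ∃ w, w ≫ σ = CartesianMonoidalCategory.lift a c :=
    ⟨CartesianMonoidalCategory.lift a c ≫ inv σ, by simp⟩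
  have hf : w ≫ SemiCartesianMonoidalCategory.fst X X = a := by
    have h1 := congrArg (fun g => g ≫ SemiCartesianMonoidalCategory.fst X X) hw
    simpa [hσ] using h1
  refine ⟨w ≫ SemiCartesianMonoidalCategory.snd X X, ?_, fun b hb => ?_⟩
  · have h1 := congrArg (fun g => g ≫ SemiCartesianMonoidalCategory.snd X X) hw
    simp only [Category.assoc, lift_snd, hσ] at h1
    show CartesianMonoidalCategory.lift a (w ≫ SemiCartesianMonoidalCategory.snd X X) ≫ P = c; rw [← hf, lift_comp_fst_snd]; exact h1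
  · have h1 : CartesianMonoidalCategory.lift a b = w := by
      rw [← cancel_mono σ, key, hw, hb]
    rw [← h1, lift_snd]

theorem right_div [IsIso (CartesianMonoidalCategory.lift P (SemiCartesianMonoidalCategory.snd X X))] {T : Over S}
    (b c : T ⟶ X) : ∃ a, m P a b = c := by
  set σ := CartesianMonoidalCategory.lift P (SemiCartesianMonoidalCategory.snd X X) with hσ
  obtain ⟨w, hw⟩ : ∃ w, w ≫ σ = CartesianMonoidalCategory.lift c b :=
    ⟨CartesianMonoidalCategory.lift c b ≫ inv σ, by simp⟩
  have hs : w ≫ SemiCartesianMonoidalCategory.snd X X = b := by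
    have h1 := congrArg (fun g => g ≫ SemiCartesianMonoidalCategory.snd X X) hw
    simpa [hσ] using h1
  refine ⟨w ≫ SemiCartesianMonoidalCategory.fst X X, ?_⟩
  have h1 := congrArg (fun g => g ≫ SemiCartesianMonoidalCategory.fst X X) hw
  simp only [Category.assoc, lift_fst, hσ] at h1
  show CartesianMonoidalCategory.lift (w ≫ SemiCartesianMonoidalCategory.fst X X) b ≫ P = c; rw [← hs, lift_comp_fst_snd]; exact h1

/-- Version with an effective epimorphism as structure morphism. -/
theorem exists_grpObj_of_effectiveEpi (hassoc : (P ▷ X) ≫ P = (α_ X X X).hom ≫ (X ◁ P) ≫ P)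
    (hl : IsIso (CartesianMonoidalCategory.lift (SemiCartesianMonoidalCategory.fst X X) P))
    (hr : IsIso (CartesianMonoidalCategory.lift P (SemiCartesianMonoidalCategory.snd X X)))
    [EffectiveEpi X.hom] :
    ∃ _ : GrpObj X, MonObj.mul (X := X) = P := by
  obtain ⟨e₀, he₀, -⟩ := left_div P (𝟙 X) (𝟙 X)
  have he : ∀ {T : Over S} (a : T ⟶ X), m P a (a ≫ e₀) = a := fun {T} a => by
    conv_rhs => rw [← Category.comp_id a, ← he₀]
    rw [comp_m, Category.comp_id]
  have hconst : ∀ {T : Over S} (a b : T ⟶ X), a ≫ e₀ = b ≫ e₀ := fun {T} a b => by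
    obtain ⟨c, hc⟩ := right_div P a b
    refine (left_div P b b).unique ?_ (he b)
    rw [← hc, m_assoc P hassoc, he]
  have hone : ∀ {T : Over S} (a : T ⟶ X), m P (a ≫ e₀) a = a := fun {T} a => by
    refine (left_div P (a ≫ e₀) (m P (a ≫ e₀) a)).unique ?_ rfl
    rw [← m_assoc P hassoc]
    congr 1
    have := he (a ≫ e₀)
    rwa [hconst (a ≫ e₀) a] at this
  let η₀ : S ⟶ X.left := EffectiveEpi.desc X.hom e₀.left fun {Z} g₁ g₂ hg =>
    congrArg CommaMorphism.left (hconst (T := Over.mk (g₁ ≫ X.hom)) (Over.homMk g₁ rfl) (Over.homMk g₂ hg.symm))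
  have hη₀ : X.hom ≫ η₀ = e₀.left := EffectiveEpi.fac X.hom _ _
  let η : 𝟙_ (Over S) ⟶ X := Over.homMk η₀ (by
    rw [← cancel_epi X.hom, reassoc_of% hη₀, Over.w]
    exact (Category.comp_id _).symm)
  have hη : ∀ {T : Over S} (a : T ⟶ X), toUnit T ≫ η = a ≫ e₀ := fun {T} a => by
    refine Over.OverMorphism.ext ?_
    show T.hom ≫ η₀ = a.left ≫ e₀.left
    rw [← hη₀, Over.w_assoc]
  obtain ⟨i₀, hi₀, -⟩ := left_div P (𝟙 X) e₀
  have hinv : ∀ {T : Over S} (a : T ⟶ X), m P a (a ≫ i₀) = a ≫ e₀ := fun {T} a => by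
    rw [← hi₀, comp_m, Category.comp_id]
  have hinv' : ∀ {T : Over S} (a : T ⟶ X), m P (a ≫ i₀) a = a ≫ e₀ := fun {T} a => by
    refine (left_div P a a).unique ?_ (he a)
    rw [← m_assoc P hassoc, hinv, hone]
  let M : MonObj X :=
    { one := η
      mul := P
      one_mul := by
        rw [show (η ▷ X) = CartesianMonoidalCategory.lift (toUnit (𝟙_ (Over S) ⊗ X) ≫ η)
          (SemiCartesianMonoidalCategory.snd _ _) from
            CartesianMonoidalCategory.hom_ext _ _ (by simp [toUnit_unique (SemiCartesianMonoidalCategory.fst (𝟙_ (Over S)) X)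
              (toUnit _)]) (by simp), hη (SemiCartesianMonoidalCategory.snd _ _), leftUnitor_hom]
        exact hone _
      mul_one := by
        rw [show (X ◁ η) = CartesianMonoidalCategory.lift (SemiCartesianMonoidalCategory.fst _ _)
          (toUnit (X ⊗ 𝟙_ (Over S)) ≫ η) from
            CartesianMonoidalCategory.hom_ext _ _ (by simp) (by simp [toUnit_unique (SemiCartesianMonoidalCategory.snd X (𝟙_ (Over S)))
              (toUnit _)]), hη (SemiCartesianMonoidalCategory.fst _ _), rightUnitor_hom]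
        exact he _
      mul_assoc := hassoc }
  refine ⟨{ M with
    inv := i₀
    left_inv := ?_
    right_inv := ?_ }, rfl⟩
  · show CartesianMonoidalCategory.lift i₀ (𝟙 X) ≫ P = toUnit X ≫ η
    rw [hη (𝟙 X), ← hinv' (𝟙 X), Category.id_comp, m]
  · show CartesianMonoidalCategory.lift (𝟙 X) i₀ ≫ P = toUnit X ≫ η
    rw [hη (𝟙 X), ← hinv (𝟙 X), Category.id_comp, m]

theorem exists_grpObj (hassoc : (P ▷ X) ≫ P = (α_ X X X).hom ≫ (X ◁ P) ≫ P)
    (hl : IsIso (CartesianMonoidalCategory.lift (SemiCartesianMonoidalCategory.fst X X) P))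
    (hr : IsIso (CartesianMonoidalCategory.lift P (SemiCartesianMonoidalCategory.snd X X)))
    [Flat X.hom] [Surjective X.hom] (hX : QuasiCompact X.hom ∨ LocallyOfFinitePresentation X.hom) :
    ∃ _ : GrpObj X, MonObj.mul (X := X) = P := by
  haveI : EffectiveEpi X.hom := by
    rcases hX with h | h <;> infer_instance
  exact exists_grpObj_of_effectiveEpi P hassoc hl hr

open scoped MonObj in
theorem isIso_shear {C : Type*} [Category C] [CartesianMonoidalCategory C] (G : C) [GrpObj G] :
    IsIso (CartesianMonoidalCategory.lift (SemiCartesianMonoidalCategory.fst G G) μ[G]) ∧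
      IsIso (CartesianMonoidalCategory.lift μ[G] (SemiCartesianMonoidalCategory.snd G G)) := by
  have hμ : μ[G] = SemiCartesianMonoidalCategory.fst G G * SemiCartesianMonoidalCategory.snd G G := by
    rw [Hom.mul_def, lift_fst_snd, Category.id_comp]
  refine ⟨⟨CartesianMonoidalCategory.lift (SemiCartesianMonoidalCategory.fst G G)
    ((SemiCartesianMonoidalCategory.fst G G)⁻¹ * SemiCartesianMonoidalCategory.snd G G), ?_, ?_⟩,
    ⟨CartesianMonoidalCategory.lift
      (SemiCartesianMonoidalCategory.fst G G * (SemiCartesianMonoidalCategory.snd G G)⁻¹)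
      (SemiCartesianMonoidalCategory.snd G G), ?_, ?_⟩⟩
  all_goals
    refine CartesianMonoidalCategory.hom_ext _ _ ?_ ?_ <;>
      simp [hμ, MonObj.comp_mul, GrpObj.comp_inv]

end Groth.Agent.AssocGrp
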